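import Cfsg.Agent.H419.EP.Iface

/-!
# S3499: the regular element trick (helper176)

* `metab` : if one two-point stabiliser `A ⊓ cj x A` is abelian then `A` is metabelian;
* `metab_hat` : the same in the linear group, modulo scalars;
* `comm_up_to`, `comm_of_unipotent`, `comm_of_regular`, `metab_of_regular` : for `Â ≤ {m | τ m ∈ scalars * m}` (`τ` a
  homomorphism) and `z ∈ S` with `τ z * z⁻¹ - 1` regular nilpotent.
-/

set_option autoImplicit false

namespace Cfsg.Agent.H176.EP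

open Subgroup Cfsg.Agent.H284 Cfsg.Agent.H419.EP
open scoped MatrixGroups commutatorElement

section abs

variable {Q : Type*} [Group Q] [Finite Q] {A : Subgroup Q} {Γ : Subgroup (MulAut Q)}

theorem nilp_of_comm {G : Type*} [Group G] (K : Subgroup G) (h : ∀ a ∈ K, ∀ b ∈ K, a * b = b * a) :
    Group.IsNilpotent K := by
  let i : CommGroup K := { (inferInstance : Group K) with
    mul_comm := fun a b => Subtype.ext (h a a.2 b b.2) }
  exact @CommGroup.isNilpotent K i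

/-- an abelian `Γ`-invariant subgroup `K ≠ 1` of `A` is a complement of every two-point stabiliser -/
theorem exists_mul (h : EPT A Γ) {K : Subgroup Q} (hKA : K ≤ A) (hKi : ∀ σ ∈ Γ, ∀ k ∈ K, σ k ∈ K) (hK : K ≠ ⊥)
    (hKc : ∀ a ∈ K, ∀ b ∈ K, a * b = b * a) {x : Q} (hx : x ∉ A) {a : Q} (ha : a ∈ A) :
    ∃ k ∈ K, ∃ m ∈ A ⊓ cj x A, a = k * m := by
  obtain ⟨-, -, -, h4, -⟩ := h.nilp K hKA hKi (nilp_of_comm K hKc) hK
  obtain ⟨h5, h6⟩ := h4 x hx
  have h7 : IsComplement' (K.subgroupOf A) ((A ⊓ cj x A : Subgroup Q).subgroupOf A) := by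
    apply Subgroup.isComplement'_of_card_mul_and_disjoint
    · rw [Nat.card_congr (subgroupOfEquivOfLe hKA).toEquiv,
        Nat.card_congr (subgroupOfEquivOfLe (inf_le_left : A ⊓ cj x A ≤ A)).toEquiv, h6]
    · rw [disjoint_iff, eq_bot_iff]
      rintro ⟨y, hy⟩ ⟨h8, h9⟩
      rw [mem_bot]
      apply Subtype.ext
      have h10 : y ∈ K ⊓ cj x A := ⟨h8, (mem_inf.1 (mem_subgroupOf.1 h9)).2⟩
      rw [h5, mem_bot] at h10
      exact h10
  obtain ⟨⟨k, m⟩, hkm⟩ := h7.surjective ⟨a, ha⟩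
  exact ⟨k, k.2, m, m.2, (congrArg Subtype.val hkm).symm⟩

/-- if one two-point stabiliser is abelian then `A` is metabelian -/
theorem metab (h : EPT A Γ) {x : Q} (hx : x ∉ A) (hab : ∀ a ∈ A ⊓ cj x A, ∀ b ∈ A ⊓ cj x A, a * b = b * a)
    {a b c d : Q} (ha : a ∈ A) (hb : b ∈ A) (hc : c ∈ A) (hd : d ∈ A) : ⁅⁅a, b⁆, ⁅c, d⁆⁆ = 1 := by
  obtain ⟨K, hKA, hKi, hK, hKc⟩ := h.abM0 x hx hab
  have hn : ∀ a ∈ A, ∀ k ∈ K, a * k * a⁻¹ ∈ K := by
    intro a ha k hk
    exact hKi (MulAut.conj a) ((h.conj a).2 ha) k hk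
  have key : ∀ a ∈ A, ∀ b ∈ A, ⁅a, b⁆ ∈ K := by
    intro a ha b hb
    obtain ⟨k, hk, m, hm, rfl⟩ := exists_mul h hKA hKi hK hKc hx ha
    obtain ⟨l, hl, n, hn', rfl⟩ := exists_mul h hKA hKi hK hKc hx hb
    have h1 : m * n = n * m := hab m hm n hn'
    have h2 : ⁅k * m, l * n⁆ = k * (m * l * m⁻¹) * (n * k⁻¹ * n⁻¹) * l⁻¹ := by
      rw [commutatorElement_def]
      calc k * m * (l * n) * (k * m)⁻¹ * (l * n)⁻¹ = k * (m * l * m⁻¹) * (m * n) * m⁻¹ * k⁻¹ * n⁻¹ * l⁻¹ := by group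
        _ = k * (m * l * m⁻¹) * (n * m) * m⁻¹ * k⁻¹ * n⁻¹ * l⁻¹ := by rw [h1]
        _ = _ := by group
    rw [h2]
    exact K.mul_mem (K.mul_mem (K.mul_mem hk (hn m (mem_inf.1 hm).1 l hl)) (hn n (mem_inf.1 hn').1 _ (K.inv_mem hk)))
      (K.inv_mem hl)
  rw [commutatorElement_eq_one_iff_mul_comm]
  exact hKc _ (key a ha b hb) _ (key c hc d hd)

end abs

section lin

variable {Q : Type*} [Group Q] [Finite Q] {A : Subgroup Q} {Γ : Subgroup (MulAut Q)}
variable {ι : Type} [Fintype ι] [DecidableEq ι] {F : Type*} [Field F] {S : Subgroup (GL ι F)}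

/-- if `Â ∩ zÂz⁻¹` is abelian modulo scalars then `Â` is metabelian modulo scalars -/
theorem metab_hat (h : EPT A Γ) (m : Model Q S) {z : GL ι F} (hzS : z ∈ S) (hz : z ∉ m.hat A)
    (hab : ∀ a ∈ m.hat A ⊓ cj z (m.hat A), ∀ b ∈ m.hat A ⊓ cj z (m.hat A), ⁅a, b⁆ ∈ Cfsg.Geo.scalars ι F)
    {a b c d : GL ι F} (ha : a ∈ m.hat A) (hb : b ∈ m.hat A) (hc : c ∈ m.hat A) (hd : d ∈ m.hat A) :
    ⁅⁅a, b⁆, ⁅c, d⁆⁆ ∈ Cfsg.Geo.scalars ι F := by
  have hx : m.π ⟨z, hzS⟩ ∉ A := fun e => hz ((m.mem_hat_iff ⟨z, hzS⟩).2 e)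
  obtain ⟨ha1, ha2⟩ := m.mem_hat.1 ha
  obtain ⟨hb1, hb2⟩ := m.mem_hat.1 hb
  obtain ⟨hc1, hc2⟩ := m.mem_hat.1 hc
  obtain ⟨hd1, hd2⟩ := m.mem_hat.1 hd
  have key := metab h hx (fun a ha b hb => by
    rw [M0_eq_map m hzS] at ha hb
    obtain ⟨a, ha, rfl⟩ := ha
    obtain ⟨b, hb, rfl⟩ := hb
    have h1 : ((⁅a, b⁆ : S) : GL ι F) ∈ Cfsg.Geo.scalars ι F := hab _ ha _ hb
    rw [← m.ker, map_commutatorElement, commutatorElement_eq_one_iff_mul_comm] at h1
    exact h1) ha2 hb2 hc2 hd2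
  rw [← map_commutatorElement, ← map_commutatorElement, ← map_commutatorElement, m.ker] at key
  exact key

theorem scal_comm {c : GL ι F} (hc : c ∈ Cfsg.Geo.scalars ι F) (g : GL ι F) : c * g = g * c := by
  obtain ⟨u, hu⟩ := (Cfsg.Geo.mem_scalars_iff c).1 hc
  apply Units.ext
  rw [Units.val_mul, Units.val_mul, hu, smul_mul_assoc, one_mul, mul_smul_comm, mul_one]

/-- elements of `Â ∩ zÂz⁻¹` commute with `τ z * z⁻¹` up to scalars -/
theorem comm_up_to {M : Subgroup (GL ι F)} (τ : GL ι F →* GL ι F)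
    (hτ : ∀ g ∈ M, ∃ c ∈ Cfsg.Geo.scalars ι F, τ g = c * g) {z g : GL ι F} (hg : g ∈ M ⊓ cj z M) :
    ∃ c ∈ Cfsg.Geo.scalars ι F, g * (τ z * z⁻¹) = c * ((τ z * z⁻¹) * g) := by
  obtain ⟨h1, h2⟩ := mem_inf.1 hg
  rw [mem_cj] at h2
  obtain ⟨c, hc, e1⟩ := hτ g h1
  obtain ⟨d, hd, e2⟩ := hτ _ h2
  refine ⟨c⁻¹ * d, mul_mem (inv_mem hc) hd, ?_⟩
  rw [map_mul, map_mul, map_inv, e1] at e2
  -- `τ z⁻¹ c g τ z = d z⁻¹ g z`
  have e3 : c * (g * τ z) = d * (τ z * z⁻¹ * g * z) := by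
    calc c * (g * τ z) = τ z * ((τ z)⁻¹ * (c * g) * τ z) := by group
      _ = τ z * (d * (z⁻¹ * g * z)) := by rw [e2]
      _ = (τ z * d) * (z⁻¹ * g * z) := by group
      _ = (d * τ z) * (z⁻¹ * g * z) := by rw [scal_comm hd]
      _ = _ := by group
  calc g * (τ z * z⁻¹) = c⁻¹ * (c * (g * τ z)) * z⁻¹ := by group
    _ = c⁻¹ * (d * (τ z * z⁻¹ * g * z)) * z⁻¹ := by rw [e3]
    _ = _ := by group

/-- an element which commutes with a unipotent element up to a scalar commutes with it -/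
theorem comm_of_unipotent [Nonempty ι] {g w c : GL ι F} (hc : c ∈ Cfsg.Geo.scalars ι F)
    (hw : IsNilpotent ((w : Matrix ι ι F) - 1)) (hg : g * w = c * (w * g)) : g * w = w * g := by
  obtain ⟨u, hu⟩ := (Cfsg.Geo.mem_scalars_iff c).1 hc
  have h1 : g * w * g⁻¹ = c * w := by rw [hg]; group
  have h2 : IsNilpotent (((c * w : GL ι F) : Matrix ι ι F) - 1) := by
    rw [← h1]
    obtain ⟨k, hk⟩ := hw
    refine ⟨k, ?_⟩
    have h3 : ((g * w * g⁻¹ : GL ι F) : Matrix ι ι F) - 1 =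
        (g : Matrix ι ι F) * ((w : Matrix ι ι F) - 1) * ((g⁻¹ : GL ι F) : Matrix ι ι F) := by
      rw [mul_sub, sub_mul, mul_one, Units.val_mul, Units.val_mul, ← Units.val_mul g g⁻¹, mul_inv_cancel, Units.val_one]
    rw [h3]
    have h4 : ∀ n : ℕ, ((g : Matrix ι ι F) * ((w : Matrix ι ι F) - 1) * ((g⁻¹ : GL ι F) : Matrix ι ι F)) ^ n =
        (g : Matrix ι ι F) * ((w : Matrix ι ι F) - 1) ^ n * ((g⁻¹ : GL ι F) : Matrix ι ι F) := by
      intro n
      induction n with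
      | zero => rw [pow_zero, pow_zero, mul_one, ← Units.val_mul, mul_inv_cancel, Units.val_one]
      | succ n ih =>
        rw [pow_succ, ih, pow_succ]
        have h5 : ((g⁻¹ : GL ι F) : Matrix ι ι F) * (g : Matrix ι ι F) = 1 := by
          rw [← Units.val_mul, inv_mul_cancel, Units.val_one]
        calc _ = (g : Matrix ι ι F) * ((w : Matrix ι ι F) - 1) ^ n * (((g⁻¹ : GL ι F) : Matrix ι ι F) *
              (g : Matrix ι ι F)) * ((w : Matrix ι ι F) - 1) * ((g⁻¹ : GL ι F) : Matrix ι ι F) := by noncomm_ring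
          _ = _ := by rw [h5, mul_one, mul_assoc (g : Matrix ι ι F)]
    rw [h4, hk, mul_zero, zero_mul]
  have h3 : ((c * w : GL ι F) : Matrix ι ι F) - 1 = (u : F) • ((w : Matrix ι ι F) - 1) + ((u : F) - 1) • 1 := by
    rw [Units.val_mul, hu, smul_mul_assoc, one_mul, smul_sub, sub_smul, one_smul]
    abel
  have h4 : IsNilpotent ((u : F) • ((w : Matrix ι ι F) - 1)) := hw.smul _
  have h5 : IsNilpotent (((u : F) - 1) • (1 : Matrix ι ι F)) := by
    have h6 : ((u : F) - 1) • (1 : Matrix ι ι F) =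
        (((c * w : GL ι F) : Matrix ι ι F) - 1) - (u : F) • ((w : Matrix ι ι F) - 1) := by
      rw [h3]; abel
    rw [h6]
    refine Commute.isNilpotent_sub ?_ h2 h4
    rw [h3]
    exact ((Commute.refl _).add_left ((Commute.one_left _).smul_left _))
  have h6 : (u : F) = 1 := by
    obtain ⟨k, hk⟩ := h5
    rw [smul_pow, one_pow] at hk
    by_contra hne
    have h7 := congrFun (congrFun hk (Classical.arbitrary ι)) (Classical.arbitrary ι)
    rw [Matrix.smul_apply, Matrix.one_apply_eq, Matrix.zero_apply, smul_eq_mul, mul_one] at h7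
    have hk0 : k ≠ 0 := by
      rintro rfl
      rw [pow_zero] at h7
      exact one_ne_zero h7
    exact sub_ne_zero.2 hne ((pow_eq_zero_iff hk0).1 h7)
  have h7 : c = 1 := by
    apply Units.ext
    rw [hu, h6, one_smul, Units.val_one]
  rw [hg, h7, one_mul]

/-- the vectors `N ^ i e` form a basis -/
theorem li_pow {V : Type*} [AddCommGroup V] [Module F V] (N : Module.End F V) {n : ℕ} (h0 : N ^ n = 0) {e : V}
    (he : (N ^ (n - 1)) e ≠ 0) : LinearIndependent F (fun i : Fin n => (N ^ (i : ℕ)) e) := by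
  rw [Fintype.linearIndependent_iff]
  intro g hg
  have key : ∀ k : ℕ, ∀ i : Fin n, (i : ℕ) = k → g i = 0 := by
    intro k
    induction k using Nat.strong_induction_on with
    | _ k ih =>
      intro i hi
      have h1 := congrArg (N ^ (n - 1 - (i : ℕ))) hg
      rw [map_sum, map_zero] at h1
      rw [Finset.sum_eq_single i] at h1
      · rw [map_smul, ← Module.End.mul_apply, ← pow_add, Nat.sub_add_cancel (by omega)] at h1
        exact (smul_eq_zero.1 h1).resolve_right he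
      · intro j _ hj
        rw [map_smul, ← Module.End.mul_apply, ← pow_add]
        rcases lt_or_gt_of_ne (fun h => hj (Fin.ext h) : (j : ℕ) ≠ (i : ℕ)) with h2 | h2
        · rw [ih (j : ℕ) (by omega) j rfl, zero_smul]
        · have h3 : n - 1 - (i : ℕ) + (j : ℕ) = n + ((j : ℕ) - (i : ℕ) - 1) := by omega
          rw [h3, pow_add, h0, zero_mul, LinearMap.zero_apply, smul_zero]
      · intro h2
        exact absurd (Finset.mem_univ i) h2
  exact fun i => key i i rfl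

/-- the centraliser of a regular nilpotent endomorphism is commutative -/
theorem end_comm {V : Type*} [AddCommGroup V] [Module F V] [FiniteDimensional F V] (N : Module.End F V)
    (h0 : N ^ (Module.finrank F V) = 0) (h1 : N ^ (Module.finrank F V - 1) ≠ 0) {a b : Module.End F V}
    (ha : a * N = N * a) (hb : b * N = N * b) : a * b = b * a := by
  obtain ⟨e, he⟩ : ∃ e, (N ^ (Module.finrank F V - 1)) e ≠ 0 := by
    by_contra hcon
    push Not at hcon
    exact h1 (LinearMap.ext hcon)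
  set n := Module.finrank F V with hn
  have hli := li_pow N h0 he
  rcases Nat.eq_zero_or_pos n with hz | hpos
  · have : Subsingleton V := Module.finrank_zero_iff.1 (hn ▸ hz)
    exact LinearMap.ext fun v => Subsingleton.elim _ _
  have : Nonempty (Fin n) := ⟨⟨0, hpos⟩⟩
  let B := basisOfLinearIndependentOfCardEqFinrank hli (by rw [Fintype.card_fin])
  have hB : ∀ i, B i = (N ^ (i : ℕ)) e := fun i => by
    simp [B]
  have hp : ∀ (c : Module.End F V) (k : ℕ), c * N = N * c → c * N ^ k = N ^ k * c := by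
    intro c k hc
    exact (Commute.pow_right (show Commute c N from hc) k)
  -- `b e` is a combination of the `N ^ i e`
  obtain ⟨g, hg⟩ : ∃ g : Fin n → F, b e = ∑ i, g i • (N ^ (i : ℕ)) e := by
    refine ⟨fun i => B.repr (b e) i, ?_⟩
    have := B.sum_repr (b e)
    simp only [hB] at this
    exact this.symm
  have hbe : ∀ v, b v = ∑ i, g i • (N ^ (i : ℕ)) v := by
    intro v
    have h2 : b = ∑ i, g i • (N ^ (i : ℕ)) := by
      apply B.ext
      intro j
      rw [hB, ← Module.End.mul_apply, hp b j hb, Module.End.mul_apply, hg, map_sum, LinearMap.sum_apply]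
      refine Finset.sum_congr rfl fun i _ => ?_
      rw [map_smul, LinearMap.smul_apply, ← Module.End.mul_apply, ← Module.End.mul_apply, ← pow_add, ← pow_add,
        add_comm]
    conv_lhs => rw [h2]
    rw [LinearMap.sum_apply]
    rfl
  apply LinearMap.ext
  intro v
  rw [Module.End.mul_apply, Module.End.mul_apply, hbe, hbe, map_sum]
  refine Finset.sum_congr rfl fun i _ => ?_
  rw [map_smul, ← Module.End.mul_apply, hp a i ha, Module.End.mul_apply]

/-- the centraliser of a regular nilpotent matrix is commutative -/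
theorem mat_comm (N : Matrix ι ι F) (h0 : N ^ (Fintype.card ι) = 0) (h1 : N ^ (Fintype.card ι - 1) ≠ 0)
    {a b : Matrix ι ι F} (ha : a * N = N * a) (hb : b * N = N * b) : a * b = b * a := by
  let f : Matrix ι ι F ≃ₐ[F] Module.End F (ι → F) := Matrix.toLinAlgEquiv'
  have hr : Module.finrank F (ι → F) = Fintype.card ι := Module.finrank_fintype_fun_eq_card F
  apply f.injective
  rw [map_mul, map_mul]
  refine end_comm (f N) ?_ ?_ ?_ ?_
  · rw [hr, ← map_pow, h0, map_zero]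
  · rw [hr, ← map_pow]
    intro h2
    exact h1 (f.injective (h2.trans (map_zero f).symm))
  · rw [← map_mul, ha, map_mul]
  · rw [← map_mul, hb, map_mul]

/-- **the regular element trick**: `Â ≤ {g | τ g ∈ scalars * g}` and `τ z * z⁻¹ - 1` regular nilpotent for one `z ∈ S`:
then `Â` is metabelian modulo scalars -/
theorem metab_of_regular (h : EPT A Γ) (m : Model Q S) (τ : GL ι F →* GL ι F)
    (hτ : ∀ g ∈ m.hat A, ∃ c ∈ Cfsg.Geo.scalars ι F, τ g = c * g) (hι : 2 ≤ Fintype.card ι) {z : GL ι F} (hzS : z ∈ S)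
    (h0 : (((τ z * z⁻¹ : GL ι F) : Matrix ι ι F) - 1) ^ (Fintype.card ι) = 0)
    (h1 : (((τ z * z⁻¹ : GL ι F) : Matrix ι ι F) - 1) ^ (Fintype.card ι - 1) ≠ 0)
    {a b c d : GL ι F} (ha : a ∈ m.hat A) (hb : b ∈ m.hat A) (hc : c ∈ m.hat A) (hd : d ∈ m.hat A) :
    ⁅⁅a, b⁆, ⁅c, d⁆⁆ ∈ Cfsg.Geo.scalars ι F := by
  have : Nonempty ι := Fintype.card_pos_iff.1 (by omega)
  have hnil : IsNilpotent (((τ z * z⁻¹ : GL ι F) : Matrix ι ι F) - 1) := ⟨_, h0⟩
  have hz : z ∉ m.hat A := by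
    intro hz
    obtain ⟨u, hu, e⟩ := hτ z hz
    have h2 : τ z * z⁻¹ = u := by rw [e]; group
    have h3 := comm_of_unipotent (g := z) hu (w := τ z * z⁻¹) hnil
    obtain ⟨v, hv⟩ := (Cfsg.Geo.mem_scalars_iff u).1 hu
    rw [h2, hv] at h0 h1
    have h4 : (v : F) • (1 : Matrix ι ι F) - 1 = ((v : F) - 1) • 1 := by rw [sub_smul, one_smul]
    rw [h4, smul_pow, one_pow] at h0 h1
    have h5 := congrFun (congrFun h0 (Classical.arbitrary ι)) (Classical.arbitrary ι)
    rw [Matrix.smul_apply, Matrix.one_apply_eq, Matrix.zero_apply, smul_eq_mul, mul_one] at h5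
    have h6 : (v : F) - 1 = 0 := by
      exact (pow_eq_zero_iff (by omega)).1 h5
    apply h1
    rw [h6, zero_pow (by omega), zero_smul]
  have key : ∀ g ∈ m.hat A ⊓ cj z (m.hat A), (g : Matrix ι ι F) * (((τ z * z⁻¹ : GL ι F) : Matrix ι ι F) - 1) =
      (((τ z * z⁻¹ : GL ι F) : Matrix ι ι F) - 1) * (g : Matrix ι ι F) := by
    intro g hg
    obtain ⟨u, hu, e⟩ := comm_up_to τ hτ hg
    have h2 := comm_of_unipotent hu hnil e
    rw [mul_sub, sub_mul, mul_one, one_mul, ← Units.val_mul, ← Units.val_mul, h2]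
  refine metab_hat h m hzS hz ?_ ha hb hc hd
  intro a ha b hb
  have h2 : a * b = b * a := by
    apply Units.ext
    rw [Units.val_mul, Units.val_mul]
    exact mat_comm _ h0 h1 (key a ha) (key b hb)
  rw [commutatorElement_eq_one_iff_mul_comm.2 h2]
  exact one_mem _

end lin

end Cfsg.Agent.H176.EP
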